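import Groth.Agent.NodalRed.Basic
import Groth.Agent.Goren.Multicross
import Groth.Agent.Goren.Apps
import Groth.Agent.GorSect.Semigroup
import Groth.Agent.Cohen.Structure

/-!
At-worst-nodal schemes over a field are Gorenstein.
-/

set_option autoImplicit false
set_option linter.style.haveILetI false
set_option maxHeartbeats 1000000

universe u

open CategoryTheory AlgebraicGeometry IsLocalRing

namespace Groth.Agent.NodalRed

/-- The ring of an ordinary double point is Gorenstein. -/
theorem isGorenstein_node (K : Type u) [Field K] :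
    LocCoh.IsGorensteinRing
      (MvPowerSeries (Fin 2) K ⧸ Ideal.span {(MvPowerSeries.X 0 * MvPowerSeries.X 1 : MvPowerSeries (Fin 2) K)}) := by
  haveI := Cohen.isRegularLocalRing_mvPowerSeries K 2
  haveI := Goren.isGorenstein_of_regular (MvPowerSeries (Fin 2) K)
  haveI := RegLoc.isDomain (A := MvPowerSeries (Fin 2) K)
  refine Goren.isGorensteinRing_quot _ (Goren.isGorensteinRing_of_local _) _ ?_
  have hX : ∀ i : Fin 2, (MvPowerSeries.X i : MvPowerSeries (Fin 2) K) ≠ 0 := fun i h => by
    have := congrArg (MvPowerSeries.coeff (Finsupp.single i 1)) h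
    rw [MvPowerSeries.coeff_index_single_self_X, map_zero] at this
    exact one_ne_zero this
  exact isSMulRegular_iff_right_eq_zero_of_smul.2 fun b hb =>
    (mul_eq_zero.1 hb).resolve_left (mul_ne_zero (hX 0) (hX 1))

/-- Gorenstein descends along flat local homomorphisms. -/
theorem gorenstein_descent {A B : Type u} [CommRing A] [CommRing B] [Algebra A B] [IsLocalRing A] [IsLocalRing B]
    [IsNoetherianRing A] [IsNoetherianRing B] [IsLocalHom (algebraMap A B)] [Module.Flat A B]
    (h : LocCoh.IsGorensteinRing B) : LocCoh.IsGorensteinRing A := by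
  haveI : Module.FaithfullyFlat A B := Module.FaithfullyFlat.of_flat_of_isLocalHom
  exact Goren.isGorensteinRing_descent A B h

/-- A node is a Gorenstein point. -/
theorem gorenstein_of_isNode (k : Type u) [Field k] (X : Scheme.{u}) [X.Over (Spec (CommRingCat.of k))]
    [LocallyOfFiniteType (X ↘ Spec (CommRingCat.of k))] (x : X) (h : Curv2.IsNode k X x) :
    LocCoh.IsGorensteinRing (X.presheaf.stalk x) := by
  obtain ⟨-, xb, rfl, e, -⟩ := h
  let L := AlgebraicClosure k
  haveI : IsLocallyNoetherian (Curv2.bc k X L) := LocallyOfFiniteType.isLocallyNoetherian (Curv2.bcSnd k X L)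
  haveI : IsLocallyNoetherian X := LocallyOfFiniteType.isLocallyNoetherian (X ↘ Spec (CommRingCat.of k))
  let B := (Curv2.bc k X L).presheaf.stalk xb
  have hC : LocCoh.IsGorensteinRing (AdicCompletion (maximalIdeal B) B) :=
    Goren.isGorensteinRing_of_equiv _ _ e.symm (isGorenstein_node L)
  haveI : Module.Flat B (AdicCompletion (maximalIdeal B) B) := AdicCompletion.flat_of_isNoetherian _
  have hB : LocCoh.IsGorensteinRing B := gorenstein_descent hC
  haveI : Flat (Spec.map (CommRingCat.ofHom (algebraMap k L))) := by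
    rw [HasRingHomProperty.Spec_iff (P := @Flat)]
    exact RingHom.flat_algebraMap_iff.mpr inferInstance
  haveI : Flat (Curv2.bcFst k X L) :=
    MorphismProperty.pullback_fst (P := @Flat) (X ↘ Spec (CommRingCat.of k)) _ inferInstance
  letI := ((Curv2.bcFst k X L).stalkMap xb).hom.toAlgebra
  haveI : IsLocalHom (algebraMap (X.presheaf.stalk (Curv2.bcFst k X L xb)) B) :=
    inferInstanceAs (IsLocalHom ((Curv2.bcFst k X L).stalkMap xb).hom)
  haveI : Module.Flat (X.presheaf.stalk (Curv2.bcFst k X L xb)) B := Flat.stalkMap (Curv2.bcFst k X L) xb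
  exact gorenstein_descent hB

/-- At-worst-nodal schemes are Gorenstein. -/
theorem isGorenstein_stalk (k : Type u) [Field k] (X : Scheme.{u}) [X.Over (Spec (CommRingCat.of k))]
    [LocallyOfFiniteType (X ↘ Spec (CommRingCat.of k))] (h : Curv2.AtWorstNodal k X) (z : X) :
    LocCoh.IsGorensteinLocalRing (X.presheaf.stalk z) := by
  haveI : IsLocallyNoetherian X := LocallyOfFiniteType.isLocallyNoetherian (X ↘ Spec (CommRingCat.of k))
  haveI : JacobsonSpace X := LocallyOfFiniteType.jacobsonSpace (X ↘ Spec (CommRingCat.of k))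
  obtain ⟨c, hzc, hc⟩ := nonempty_inter_closedPoints (Z := closure ({z} : Set X))
    ⟨z, subset_closure rfl⟩ isClosed_closure.isLocallyClosed
  have hgor : LocCoh.IsGorensteinRing (X.presheaf.stalk c) := by
    rcases h c hc with ⟨U, hcU, hU⟩ | hn
    · haveI := hU
      haveI := SmLocalST.isRegularLocalRing_stalk_of_smooth_field (U.ι ≫ (X ↘ Spec (CommRingCat.of k))) ⟨c, hcU⟩
      haveI := Goren.isGorenstein_of_regular (U.toScheme.presheaf.stalk ⟨c, hcU⟩)
      exact Goren.isGorensteinRing_of_equiv _ _ (asIso (U.ι.stalkMap ⟨c, hcU⟩)).commRingCatIsoToRingEquiv.symm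
        (Goren.isGorensteinRing_of_local _)
    · exact gorenstein_of_isNode k X c hn
  have hsp : z ⤳ c := specializes_iff_mem_closure.2 hzc
  haveI := GrpField.flat_fromSpecStalk c
  obtain ⟨P, rfl⟩ : z ∈ Set.range (X.fromSpecStalk c) := by
    rw [Scheme.range_fromSpecStalk]; exact hsp
  let E : X.presheaf.stalk (X.fromSpecStalk c P) ≃+* Localization.AtPrime P.asIdeal :=
    (RingEquiv.ofBijective ((X.fromSpecStalk c).stalkMap P).hom (GeomProp.bijective_stalkMap _ _)).trans
      (StructureSheaf.stalkIso _ _).toRingEquiv.symm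
  exact (Goren.gorenstein_equiv_iff E).2 (hgor.isGorensteinLocalRing_localization P.asIdeal)

end Groth.Agent.NodalRed
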