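import Groth.Agent.GeomProp.BCStalk
import Groth.Agent.SmLocalST.SmoothField
import Groth.Agent.FlatDepth.RegHom
import Groth.Prelude.Def_CurvBase
import Mathlib

/-!
At-worst-nodal schemes over a field are reduced.
-/

set_option autoImplicit false
set_option linter.style.haveILetI false

universe u

open CategoryTheory AlgebraicGeometry MvPowerSeries

namespace Groth.Agent.NodalRed

variable {K : Type u} [Field K]

theorem X_dvd_of_sq (s t : Fin 2) (hst : s ≠ t) (f : MvPowerSeries (Fin 2) K)
    (h : (X s : MvPowerSeries (Fin 2) K) ∣ f * f) : (X s : MvPowerSeries (Fin 2) K) ∣ f := by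
  classical
  rw [X_dvd_iff] at h ⊢
  intro m hm
  induction hn : m t using Nat.strong_induction_on generalizing m with
  | _ n ih =>
    have key : coeff (m + m) (f * f) = coeff m f * coeff m f := by
      rw [coeff_mul]
      rw [Finset.sum_eq_single (m, m)]
      swap
      · intro hmem
        exact absurd (show (m, m) ∈ Finset.HasAntidiagonal.antidiagonal (m + m) by simp) hmem
      intro p hp hne
      simp only [Finset.HasAntidiagonal.mem_antidiagonal] at hp
      have h1 : p.1 s = 0 ∧ p.2 s = 0 := by
        have := DFunLike.congr_fun hp s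
        simp only [Finsupp.add_apply] at this
        omega
      have h2 : p.1 t + p.2 t = m t + m t := by
        have := DFunLike.congr_fun hp t
        simpa [Finsupp.add_apply] using this
      rcases lt_trichotomy (p.1 t) (m t) with hlt | heq | hgt
      · rw [ih (p.1 t) (hn ▸ hlt) p.1 h1.1 rfl, zero_mul]
      · exfalso
        have hcase : ∀ i : Fin 2, i = s ∨ i = t := fun i => by omega
        have e1 : p.1 = m := Finsupp.ext fun i => by
          rcases hcase i with rfl | rfl
          · rw [hm, h1.1]
          · exact heq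
        have e2 : p.2 = m := Finsupp.ext fun i => by
          rcases hcase i with rfl | rfl
          · rw [hm, h1.2]
          · omega
        exact hne (Prod.ext e1 e2)
      · rw [ih (p.2 t) (by omega) p.2 h1.2 rfl, mul_zero]
    have h0 := h (m + m) (by rw [Finsupp.add_apply, hm])
    rw [key] at h0
    exact mul_self_eq_zero.1 h0

/-- The ring of an ordinary double point is reduced. -/
theorem isReduced_node :
    _root_.IsReduced (MvPowerSeries (Fin 2) K ⧸ Ideal.span {(X 0 * X 1 : MvPowerSeries (Fin 2) K)}) := by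
  refine isReduced_iff_pow_one_lt 2 one_lt_two |>.2 fun z hz => ?_
  obtain ⟨f, rfl⟩ := Ideal.Quotient.mk_surjective z
  rw [← map_pow, Ideal.Quotient.eq_zero_iff_mem, Ideal.mem_span_singleton, pow_two] at hz
  obtain ⟨g, rfl⟩ := X_dvd_of_sq 0 1 (by decide) f ((dvd_mul_right _ _).trans hz)
  have h1 := X_dvd_of_sq 1 0 (by decide) (X 0 * g) ((dvd_mul_left _ _).trans hz)
  rw [Ideal.Quotient.eq_zero_iff_mem, Ideal.mem_span_singleton]
  refine mul_dvd_mul_left _ (X_dvd_iff.2 fun m hm => ?_)
  have h2 := X_dvd_iff.1 h1 (Finsupp.single 0 1 + m) (by simp [hm])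
  rwa [X_def, coeff_add_monomial_mul, one_mul] at h2

attribute [local instance] Curv2.stalkAlgebra

/-- A node is a reduced point. -/
theorem isReduced_of_isNode (k : Type u) [Field k] (X : Scheme.{u}) [X.Over (Spec (CommRingCat.of k))]
    [LocallyOfFiniteType (X ↘ Spec (CommRingCat.of k))] (x : X) (h : Curv2.IsNode k X x) :
    _root_.IsReduced (X.presheaf.stalk x) := by
  obtain ⟨-, xb, rfl, e, -⟩ := h
  let L := AlgebraicClosure k
  haveI : IsLocallyNoetherian (Curv2.bc k X L) := LocallyOfFiniteType.isLocallyNoetherian (Curv2.bcSnd k X L)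
  haveI hB : _root_.IsReduced ((Curv2.bc k X L).presheaf.stalk xb) := by
    haveI := isReduced_node (K := L)
    haveI : _root_.IsReduced (AdicCompletion (IsLocalRing.maximalIdeal ((Curv2.bc k X L).presheaf.stalk xb))
      ((Curv2.bc k X L).presheaf.stalk xb)) := isReduced_of_injective e.toRingHom e.injective
    exact isReduced_of_injective
      (algebraMap ((Curv2.bc k X L).presheaf.stalk xb)
        (AdicCompletion (IsLocalRing.maximalIdeal ((Curv2.bc k X L).presheaf.stalk xb)) ((Curv2.bc k X L).presheaf.stalk xb)))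
      (AdicCompletion.of_injective _ _)
  haveI : Flat (Spec.map (CommRingCat.ofHom (algebraMap k L))) := by
    rw [HasRingHomProperty.Spec_iff (P := @Flat)]
    exact RingHom.flat_algebraMap_iff.mpr inferInstance
  haveI : Flat (Curv2.bcFst k X L) :=
    MorphismProperty.pullback_fst (P := @Flat) (X ↘ Spec (CommRingCat.of k)) _ inferInstance
  letI := ((Curv2.bcFst k X L).stalkMap xb).hom.toAlgebra
  haveI : IsLocalHom (algebraMap (X.presheaf.stalk (Curv2.bcFst k X L xb)) ((Curv2.bc k X L).presheaf.stalk xb)) :=
    inferInstanceAs (IsLocalHom ((Curv2.bcFst k X L).stalkMap xb).hom)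
  haveI : Module.Flat (X.presheaf.stalk (Curv2.bcFst k X L xb)) ((Curv2.bc k X L).presheaf.stalk xb) :=
    Flat.stalkMap (Curv2.bcFst k X L) xb
  haveI : Module.FaithfullyFlat (X.presheaf.stalk (Curv2.bcFst k X L xb)) ((Curv2.bc k X L).presheaf.stalk xb) :=
    Module.FaithfullyFlat.of_flat_of_isLocalHom
  exact isReduced_of_injective _ (FaithfulSMul.algebraMap_injective
    (X.presheaf.stalk (Curv2.bcFst k X L xb)) ((Curv2.bc k X L).presheaf.stalk xb))

/-- At-worst-nodal schemes are reduced. -/
theorem isReduced_stalk (k : Type u) [Field k] (X : Scheme.{u}) [X.Over (Spec (CommRingCat.of k))]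
    [LocallyOfFiniteType (X ↘ Spec (CommRingCat.of k))] (h : Curv2.AtWorstNodal k X) (z : X) :
    _root_.IsReduced (X.presheaf.stalk z) := by
  haveI : JacobsonSpace X := LocallyOfFiniteType.jacobsonSpace (X ↘ Spec (CommRingCat.of k))
  obtain ⟨c, hzc, hc⟩ := nonempty_inter_closedPoints (Z := closure ({z} : Set X))
    ⟨z, subset_closure rfl⟩ isClosed_closure.isLocallyClosed
  have hred : _root_.IsReduced (X.presheaf.stalk c) := by
    rcases h c hc with ⟨U, hcU, hU⟩ | hn
    · haveI := hU
      haveI := SmLocalST.isRegularLocalRing_stalk_of_smooth_field (U.ι ≫ (X ↘ Spec (CommRingCat.of k))) ⟨c, hcU⟩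
      haveI := RegLoc.isDomain (A := U.toScheme.presheaf.stalk ⟨c, hcU⟩)
      exact isReduced_of_injective (asIso (U.ι.stalkMap ⟨c, hcU⟩)).commRingCatIsoToRingEquiv.toRingHom
        (asIso (U.ι.stalkMap ⟨c, hcU⟩)).commRingCatIsoToRingEquiv.injective
    · exact isReduced_of_isNode k X c hn
  have hsp : z ⤳ c := specializes_iff_mem_closure.2 hzc
  haveI := GrpField.flat_fromSpecStalk c
  obtain ⟨P, rfl⟩ : z ∈ Set.range (X.fromSpecStalk c) := by
    rw [Scheme.range_fromSpecStalk]; exact hsp
  haveI : _root_.IsReduced (Localization.AtPrime P.asIdeal) :=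
    isReduced_localizationPreserves P.asIdeal.primeCompl _ hred
  let E : X.presheaf.stalk (X.fromSpecStalk c P) ≃+* Localization.AtPrime P.asIdeal :=
    (RingEquiv.ofBijective ((X.fromSpecStalk c).stalkMap P).hom (GeomProp.bijective_stalkMap _ _)).trans
      (StructureSheaf.stalkIso _ _).toRingEquiv.symm
  exact isReduced_of_injective E.toRingHom E.injective

end Groth.Agent.NodalRed
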